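import Cfsg.Agent.Lib.PLocal.Cores
import Cfsg.Agent.Lib.Transfer.NormalPComplement
import Mathlib

/-!
# A central element of a Sylow subgroup over a rank one residual

`Good p M`: `M` has a Borel subgroup `N = N(U)` with cyclic quotient by the Sylow `p`-subgroup `U`, an
element `h` of order dividing `p - 1` modulo `U` fixing exactly two conjugates of `U`, and `M` is generated
by the conjugates of `U`.

`eq_one`: if `O_p(X) = 1` and `O^p(X)` is good then the only element of the centre of a Sylow `p`-subgroup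
`T` centralising `N(T)` is the identity.
-/

set_option autoImplicit false

namespace Cfsg.Agent.PLocal.RankOneCentral

open Subgroup

/-- The data of a rank one group in characteristic `p`. -/
def Good (p : ℕ) (M : Type*) [Group M] : Prop :=
  ∃ (U : Sylow p M) (h w c : M),
    h ∈ normalizer ((U : Subgroup M) : Set M) ∧ h ^ (p - 1) ∈ U ∧
    c ∈ normalizer ((U : Subgroup M) : Set M) ∧
    (∀ x ∈ normalizer ((U : Subgroup M) : Set M), ∃ i : ℤ, (c ^ i)⁻¹ * x ∈ U) ∧
    w ∉ normalizer ((U : Subgroup M) : Set M) ∧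
    w⁻¹ * h * w ∈ normalizer ((U : Subgroup M) : Set M) ∧
    (∀ g : M, g⁻¹ * h * g ∈ normalizer ((U : Subgroup M) : Set M) →
      g ∈ normalizer ((U : Subgroup M) : Set M) ∨ w⁻¹ * g ∈ normalizer ((U : Subgroup M) : Set M)) ∧
    (∀ g : M, g ∈ normalizer ((U : Subgroup M) : Set M) ∨
      ∃ u ∈ (U : Subgroup M), (u * w)⁻¹ * g ∈ normalizer ((U : Subgroup M) : Set M)) ∧
    (∀ K : Subgroup M, (∀ g : M, ∀ u ∈ (U : Subgroup M), g * u * g⁻¹ ∈ K) → K = ⊤)

variable {p : ℕ} [Fact p.Prime] {M M' : Type*} [Group M] [Group M'] [Finite M]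

theorem mem_normalizer_of_conj_le {U : Subgroup M} {m : M} (h : ∀ u ∈ U, m * u * m⁻¹ ∈ U) :
    m ∈ normalizer (U : Set M) := by
  refine mem_normalizer_iff.2 fun x => ⟨h x, fun hx => ?_⟩
  have hmap : U.map (MulAut.conj m).toMonoidHom = U := by
    refine eq_of_le_of_card_ge ?_ (card_map_of_injective (MulAut.conj m).injective).ge
    rintro _ ⟨u, hu, rfl⟩
    exact h u hu
  rw [← hmap] at hx
  obtain ⟨u, hu, he⟩ := hx
  have : u = x := (MulAut.conj m).injective he
  exact this ▸ hu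

/-- Goodness passes to quotients by central subgroups of order prime to `p`. -/
theorem good_of_surjective (π : M →* M') (hπ : Function.Surjective π) (hc : π.ker ≤ center M)
    (hk : ¬ p ∣ Nat.card π.ker) (hM : Good p M) : Good p M' := by
  obtain ⟨U, h, w, c, h1, h2, h3, h4, h5, h6, h7, h8, h9⟩ := hM
  haveI : Finite M' := Finite.of_surjective π hπ
  set U' : Sylow p M' := U.mapSurjective hπ
  have hU' : (U' : Subgroup M') = (U : Subgroup M).map π := rfl
  have fwd : ∀ {m : M}, m ∈ normalizer ((U : Subgroup M) : Set M) →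
      π m ∈ normalizer ((U' : Subgroup M') : Set M') := by
    intro m hm
    refine mem_normalizer_of_conj_le fun u hu => ?_
    rw [hU'] at hu ⊢
    obtain ⟨v, hv, rfl⟩ := hu
    exact ⟨m * v * m⁻¹, (mem_normalizer_iff.1 hm v).1 hv, by simp⟩
  have bwd : ∀ {m : M}, π m ∈ normalizer ((U' : Subgroup M') : Set M') →
      m ∈ normalizer ((U : Subgroup M) : Set M) := by
    intro m hm
    refine mem_normalizer_of_conj_le fun u hu => ?_
    have h0 : π m * π u * (π m)⁻¹ ∈ (U' : Subgroup M') :=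
      (mem_normalizer_iff.1 hm _).1 (by rw [hU']; exact ⟨u, hu, rfl⟩)
    rw [hU'] at h0
    obtain ⟨v, hv, hvv⟩ := h0
    obtain ⟨a, ha⟩ := IsPGroup.iff_card.1 U.isPGroup'
    have hpow : ∀ y ∈ (U : Subgroup M), y ^ p ^ a = 1 := fun y hy => by
      have := congrArg Subtype.val (pow_card_eq_one' (x := (⟨y, hy⟩ : (U : Subgroup M))))
      rwa [ha] at this
    have hker : v⁻¹ * (m * u * m⁻¹) ∈ π.ker := by
      rw [MonoidHom.mem_ker, map_mul, map_inv, hvv, map_mul, map_mul, map_inv, inv_mul_cancel]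
    set k := v⁻¹ * (m * u * m⁻¹) with hkdef
    have hcomm : Commute v k := (mem_center_iff.1 (hc hker) v)
    have hkp : k ^ p ^ a = 1 := by
      have e : v * k = m * u * m⁻¹ := by rw [hkdef, mul_inv_cancel_left]
      have e' := congrArg (· ^ p ^ a) e
      simp only [hcomm.mul_pow, conj_pow, hpow _ hu, hpow _ hv, one_mul, mul_one, mul_inv_cancel] at e'
      exact e'
    have hk1 : k = 1 := by
      have hd : orderOf k ∣ Nat.gcd (Nat.card π.ker) (p ^ a) := Nat.dvd_gcd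
        (by simpa using orderOf_dvd_natCard (⟨k, hker⟩ : π.ker)) (orderOf_dvd_of_pow_eq_one hkp)
      rw [Nat.Coprime.gcd_eq_one (Nat.Coprime.pow_right _
        (((Fact.out : p.Prime).coprime_iff_not_dvd).2 hk).symm), Nat.dvd_one, orderOf_eq_one_iff] at hd
      exact hd
    rw [hkdef, inv_mul_eq_one] at hk1
    exact hk1 ▸ hv
  refine ⟨U', π h, π w, π c, fwd h1, ?_, fwd h3, ?_, fun hw => h5 (bwd hw), ?_, ?_, ?_, ?_⟩
  · rw [← map_pow]; exact mem_map_of_mem π h2
  · intro x hx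
    obtain ⟨x, rfl⟩ := hπ x
    obtain ⟨i, hi⟩ := h4 x (bwd hx)
    exact ⟨i, by rw [← map_zpow, ← map_inv, ← map_mul]; exact mem_map_of_mem π hi⟩
  · rw [← map_inv, ← map_mul, ← map_mul]; exact fwd h6
  · intro g hg
    obtain ⟨g, rfl⟩ := hπ g
    rw [← map_inv, ← map_mul, ← map_mul] at hg
    rcases h7 g (bwd hg) with h | h
    · exact Or.inl (fwd h)
    · exact Or.inr (by rw [← map_inv, ← map_mul]; exact fwd h)
  · intro g
    obtain ⟨g, rfl⟩ := hπ g
    rcases h8 g with h | ⟨u, hu, h⟩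
    · exact Or.inl (fwd h)
    · exact Or.inr ⟨π u, mem_map_of_mem π hu, by rw [← map_mul, ← map_inv, ← map_mul]; exact fwd h⟩
  · intro K hK
    have htop : K.comap π = ⊤ := h9 _ fun g u hu => by
      show π (g * u * g⁻¹) ∈ K
      rw [map_mul, map_mul, map_inv]
      exact hK _ _ (mem_map_of_mem π hu)
    refine eq_top_iff.2 fun x _ => ?_
    obtain ⟨x, rfl⟩ := hπ x
    exact (show x ∈ K.comap π from htop ▸ mem_top x)

theorem good_of_equiv (e : M ≃* M') (hM : Good p M) : Good p M' := by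
  refine good_of_surjective e.toMonoidHom e.surjective ?_ ?_ hM
  · rw [(MonoidHom.ker_eq_bot_iff _).2 e.injective]; exact bot_le
  · rw [(MonoidHom.ker_eq_bot_iff _).2 e.injective, card_bot]
    exact (Fact.out : p.Prime).not_dvd_one

theorem charP_of_card {F : Type*} [Field F] [Fintype F] {a : ℕ} (ha : 1 ≤ a)
    (hF : Fintype.card F = p ^ a) : CharP F p := by
  obtain ⟨r, hr⟩ := CharP.exists F
  haveI := hr
  obtain ⟨n, hr', hn⟩ := FiniteField.card F r
  rw [hF] at hn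
  have : r = p := (Nat.prime_dvd_prime_iff_eq hr' (Fact.out : p.Prime)).1
    (hr'.dvd_of_dvd_pow (hn ▸ dvd_pow_self r n.pos.ne'))
  exact this ▸ hr

/-- An exponent fixed by a `p`-power iteration modulo a divisor of `p - 1`. -/
theorem exponent_eq_one {m : ℕ} (hm : m ∣ p - 1) {j : ℤ} {a : ℕ}
    (h : ((j : ZMod m)) ^ p ^ a = 1) : (j : ZMod m) = 1 := by
  have hp := (Fact.out : p.Prime)
  have hp1 : 0 < p - 1 := Nat.sub_pos_of_lt hp.one_lt
  have hm0 : m ≠ 0 := fun h0 => by rw [h0, Nat.zero_dvd] at hm; omega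
  haveI : NeZero m := ⟨hm0⟩
  obtain ⟨v, hv⟩ := IsUnit.of_pow_eq_one h (pow_ne_zero a hp.ne_zero)
  have hv1 : v ^ p ^ a = 1 := Units.ext (by simp [hv, h])
  have h2 : orderOf v ∣ Nat.gcd (Nat.totient m) (p ^ a) := by
    refine Nat.dvd_gcd ?_ (orderOf_dvd_of_pow_eq_one hv1)
    rw [← ZMod.card_units_eq_totient m]
    exact orderOf_dvd_card
  have hlt : Nat.totient m < p := lt_of_le_of_lt (Nat.totient_le m)
    (lt_of_le_of_lt (Nat.le_of_dvd hp1 hm) (Nat.sub_lt hp.pos zero_lt_one))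
  have hcop : Nat.Coprime (Nat.totient m) (p ^ a) :=
    (Nat.Coprime.pow_right _ ((hp.coprime_iff_not_dvd).2 (Nat.not_dvd_of_pos_of_lt
      (Nat.totient_pos.2 (Nat.pos_of_ne_zero hm0)) hlt)).symm)
  rw [hcop.gcd_eq_one, Nat.dvd_one, orderOf_eq_one_iff] at h2
  rw [← hv, h2, Units.val_one]

/-- Modulo `U`, a `p`-element normalising `R` and `U` centralises every `h` with `h ^ (p-1) ∈ U`. -/
theorem commutator_mem {X : Type*} [Group X] [Finite X] (U N : Subgroup X) (hUN : U ≤ N)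
    (hnor : N ≤ normalizer (U : Set X)) {c : X} (hc : c ∈ N)
    (hgen : ∀ x ∈ N, ∃ i : ℤ, (c ^ i)⁻¹ * x ∈ U) {t h : X} (htU : t ∈ normalizer (U : Set X))
    (htN : t ∈ normalizer (N : Set X)) {a : ℕ} (hta : t ^ p ^ a = 1) (hh : h ∈ N)
    (hhp : h ^ (p - 1) ∈ U) : h⁻¹ * (t * h * t⁻¹) ∈ U := by
  haveI : (U.subgroupOf N).Normal := (normal_subgroupOf_iff_le_normalizer hUN).2 hnor
  set π := QuotientGroup.mk' (U.subgroupOf N)
  have hπ : ∀ {x y : X} (hx : x ∈ N) (hy : y ∈ N), x⁻¹ * y ∈ U → π ⟨x, hx⟩ = π ⟨y, hy⟩ :=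
    fun hx hy h' => QuotientGroup.eq.2 (by simpa [mem_subgroupOf] using h')
  have htc : t * c * t⁻¹ ∈ N := (mem_normalizer_iff.1 htN c).1 hc
  obtain ⟨j, hj⟩ := hgen _ htc
  -- conjugation by `t` is the `j`-th power modulo `U`
  have step : ∀ (x : X) (hx : x ∈ N),
      π ⟨t * x * t⁻¹, (mem_normalizer_iff.1 htN x).1 hx⟩ = π ⟨x, hx⟩ ^ j := by
    intro x hx
    obtain ⟨i, hi⟩ := hgen x hx
    have e1 : π ⟨x, hx⟩ = π ⟨c, hc⟩ ^ i := by
      rw [← map_zpow]
      exact (hπ (zpow_mem hc i) hx hi).symm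
    have e2 : π ⟨t * x * t⁻¹, (mem_normalizer_iff.1 htN x).1 hx⟩ = π ⟨t * c * t⁻¹, htc⟩ ^ i := by
      rw [← map_zpow]
      refine (hπ (zpow_mem htc i) _ ?_).symm
      have := (mem_normalizer_iff.1 htU _).1 hi
      rw [conj_zpow]
      convert this using 1
      group
    have e3 : π ⟨t * c * t⁻¹, htc⟩ = π ⟨c, hc⟩ ^ j := by
      rw [← map_zpow]
      exact (hπ (zpow_mem hc j) htc hj).symm
    rw [e2, e3, e1, ← zpow_mul, ← zpow_mul, mul_comm]
  have hiter : ∀ (n : ℕ), ∃ hn : t ^ n * h * (t ^ n)⁻¹ ∈ N,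
      π ⟨t ^ n * h * (t ^ n)⁻¹, hn⟩ = π ⟨h, hh⟩ ^ (j ^ n) := by
    intro n
    induction n with
    | zero => exact ⟨by simpa using hh, by simp⟩
    | succ n ih =>
      obtain ⟨hn, hn'⟩ := ih
      have e : t ^ (n + 1) * h * (t ^ (n + 1))⁻¹ = t * (t ^ n * h * (t ^ n)⁻¹) * t⁻¹ := by
        rw [pow_succ']; group
      refine ⟨e ▸ (mem_normalizer_iff.1 htN _).1 hn, ?_⟩
      simp only [e]
      rw [step _ hn, hn', ← zpow_mul, pow_succ]
  obtain ⟨hn, hn'⟩ := hiter (p ^ a)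
  have e : π ⟨h, hh⟩ ^ (j ^ p ^ a) = π ⟨h, hh⟩ ^ (1 : ℤ) := by
    rw [← hn', zpow_one]
    simp [hta]
  set m := orderOf (π ⟨h, hh⟩)
  have hm : m ∣ p - 1 := orderOf_dvd_of_pow_eq_one (by
    rw [← map_pow]
    exact (QuotientGroup.eq_one_iff _).2 (by simpa [mem_subgroupOf] using hhp))
  have hmod : ((j : ZMod m)) ^ p ^ a = 1 := by
    have := (ZMod.intCast_eq_intCast_iff _ _ m).2 (zpow_eq_zpow_iff_modEq.1 e)
    simpa using this
  have hj1 : j ≡ 1 [ZMOD (m : ℤ)] := (ZMod.intCast_eq_intCast_iff _ _ m).1 (by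
    simpa using exponent_eq_one hm hmod)
  have : π ⟨h, hh⟩ = π ⟨t * h * t⁻¹, (mem_normalizer_iff.1 htN h).1 hh⟩ := by
    rw [step h hh, zpow_eq_zpow_iff_modEq.2 hj1, zpow_one]
  simpa [mem_subgroupOf] using QuotientGroup.eq.1 this

/-- The main step. -/
theorem eq_one {X : Type*} [Group X] [Finite X] (hO : Cfsg.pCore p X = ⊥) (R : Subgroup X)
    [R.Normal] (hRp : IsPGroup p (X ⧸ R)) (hR : Good p R) (T : Sylow p X) {z : X}
    (hz : z ∈ (T : Subgroup X)) (hzT : ∀ t ∈ (T : Subgroup X), z * t = t * z)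
    (hzN : ∀ n ∈ normalizer ((T : Subgroup X) : Set X), z * n = n * z) : z = 1 := by
  classical
  obtain ⟨U₀, h, w, c, h1, h2, h3, h4, h5, h6, h7, h8, h9⟩ := hR
  set U : Subgroup X := (U₀ : Subgroup R).map R.subtype with hUdef
  obtain ⟨T₀, hT₀⟩ := (U₀.isPGroup'.map R.subtype).exists_le_sylow
  obtain ⟨y, hy⟩ := MulAction.exists_smul_eq X T T₀
  -- transport `z` to `T₀`
  have hmem : ∀ x : X, x ∈ (T₀ : Subgroup X) ↔ y⁻¹ * x * y ∈ (T : Subgroup X) := fun x => by
    rw [← hy, Sylow.coe_subgroup_smul, mem_pointwise_smul_iff_inv_smul_mem]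
    simp [MulAut.smul_def]
  suffices hmain : y * z * y⁻¹ = 1 by simpa using hmain
  set z₀ := y * z * y⁻¹ with hz₀
  have back : ∀ {x : X}, z * (y⁻¹ * x * y) = (y⁻¹ * x * y) * z → z₀ * x = x * z₀ := by
    intro x he
    calc z₀ * x = y * (z * (y⁻¹ * x * y)) * y⁻¹ := by rw [hz₀]; group
      _ = y * ((y⁻¹ * x * y) * z) * y⁻¹ := by rw [he]
      _ = x * z₀ := by rw [hz₀]; group
  have hz₀T : z₀ ∈ (T₀ : Subgroup X) := (hmem _).2 (by simpa [hz₀, mul_assoc] using hz)
  have hz₀C : ∀ t ∈ (T₀ : Subgroup X), z₀ * t = t * z₀ := fun t ht => back (hzT _ ((hmem t).1 ht))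
  have hz₀N : ∀ n ∈ normalizer ((T₀ : Subgroup X) : Set X), z₀ * n = n * z₀ := fun n hn =>
    back (hzN _ (mem_normalizer_of_conj_le fun t ht => by
      have h' : n * (y * t * y⁻¹) * n⁻¹ ∈ (T₀ : Subgroup X) :=
        (mem_normalizer_iff.1 hn _).1 ((hmem _).2 (by simpa [mul_assoc] using ht))
      have := (hmem _).1 h'
      simpa [mul_assoc] using this))
  clear_value z₀
  clear hz₀
  revert hz₀T hz₀C hz₀N
  generalize z₀ = z
  intro hz hzT hzN
  -- `U = T₀ ∩ R`
  have hUT : U ≤ (T₀ : Subgroup X) := hT₀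
  have hUR : U ≤ R := map_subtype_le _
  have hinf : ∀ x : R, (x : X) ∈ (T₀ : Subgroup X) → x ∈ (U₀ : Subgroup R) := by
    have hP : IsPGroup p ((T₀ : Subgroup X).subgroupOf R) :=
      (T₀.isPGroup'.comap_of_injective R.subtype R.subtype_injective)
    have hle : (U₀ : Subgroup R) ≤ (T₀ : Subgroup X).subgroupOf R := fun x hx =>
      hUT ⟨x, hx, rfl⟩
    intro x hx
    rw [← U₀.is_maximal' hP hle]
    exact hx
  have hN : ∀ {x : R}, x ∈ normalizer ((U₀ : Subgroup R) : Set R) →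
      ∀ u ∈ U, (x : X) * u * (x : X)⁻¹ ∈ U := by
    rintro x hx _ ⟨u, hu, rfl⟩
    exact ⟨x * u * x⁻¹, (mem_normalizer_iff.1 hx u).1 hu, rfl⟩
  set N : Subgroup X := (normalizer ((U₀ : Subgroup R) : Set R)).map R.subtype with hNdef
  have hTU : ∀ t ∈ (T₀ : Subgroup X), t ∈ normalizer (U : Set X) := fun t ht =>
    mem_normalizer_of_conj_le fun u hu =>
      ⟨⟨t * u * t⁻¹, Normal.conj_mem ‹R.Normal› u (hUR hu) t⟩,
        hinf _ (mul_mem (mul_mem ht (hUT hu)) (inv_mem ht)), rfl⟩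
  have hNnor : N ≤ normalizer (U : Set X) := by
    rintro _ ⟨x, hx, rfl⟩
    exact mem_normalizer_of_conj_le (hN hx)
  have hmemN : ∀ x : R, (∀ u ∈ U, (x : X) * u * (x : X)⁻¹ ∈ U) →
      x ∈ normalizer ((U₀ : Subgroup R) : Set R) := fun x hx =>
    mem_normalizer_of_conj_le fun u hu => by
      obtain ⟨v, hv, hvv⟩ := hx (u : X) ⟨u, hu, rfl⟩
      have : v = x * u * x⁻¹ := Subtype.ext hvv
      exact this ▸ hv
  have hTN : ∀ t ∈ (T₀ : Subgroup X), t ∈ normalizer (N : Set X) := fun t ht =>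
    mem_normalizer_of_conj_le fun n hn => by
      obtain ⟨x, hx, rfl⟩ := hn
      refine ⟨⟨t * x * t⁻¹, Normal.conj_mem ‹R.Normal› _ x.2 t⟩, hmemN _ fun u hu => ?_, rfl⟩
      have h1 := (mem_normalizer_iff.1 (inv_mem (hTU t ht)) u).1 hu
      have h2 := (mem_normalizer_iff.1 (hNnor ⟨x, hx, rfl⟩) _).1 h1
      have h3 := (mem_normalizer_iff.1 (hTU t ht) _).1 h2
      simpa [mul_assoc] using h3
  -- `h` normalises `T₀`, so commutes with `z`
  have hcomm : ∀ t ∈ (T₀ : Subgroup X), (h : X)⁻¹ * (t * h * t⁻¹) ∈ U := by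
    intro t ht
    obtain ⟨a, ha⟩ := IsPGroup.iff_card.1 T₀.isPGroup'
    refine commutator_mem (p := p) U N ?_ hNnor (c := (c : X)) ⟨c, h3, rfl⟩ ?_ (hTU t ht) (hTN t ht)
      (a := a) ?_ ⟨h, h1, rfl⟩ ⟨h ^ (p - 1), h2, by simp⟩
    · rintro _ ⟨u, hu, rfl⟩
      exact ⟨u, le_normalizer hu, rfl⟩
    · rintro _ ⟨x, hx, rfl⟩
      obtain ⟨i, hi⟩ := h4 x hx
      exact ⟨i, ⟨_, hi, by simp⟩⟩
    · have := congrArg Subtype.val (pow_card_eq_one' (x := (⟨t, ht⟩ : (T₀ : Subgroup X))))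
      rwa [ha] at this
  have hhT : (h : X) ∈ normalizer ((T₀ : Subgroup X) : Set X) := by
    have : (h : X)⁻¹ ∈ normalizer ((T₀ : Subgroup X) : Set X) := mem_normalizer_of_conj_le fun t ht => by
      have := mul_mem (hUT (hcomm t ht)) ht
      simpa [mul_assoc] using this
    simpa using inv_mem this
  have hzh : z * (h : X) = h * z := hzN _ hhT
  have hzU : ∀ u ∈ U, z * u = u * z := fun u hu => hzT u (hUT hu)
  -- conjugation by `z` on `R`
  let σ : R ≃* R := MulAut.conjNormal z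
  have hσ : ∀ x : R, (σ x : X) = z * x * z⁻¹ := fun x => MulAut.conjNormal_apply z x
  have hσU : ∀ u ∈ (U₀ : Subgroup R), σ u = u := fun u hu => Subtype.ext (by
    rw [hσ, hzU (u : X) ⟨u, hu, rfl⟩, mul_inv_cancel_right])
  have hσh : σ h = h := Subtype.ext (by rw [hσ, hzh, mul_inv_cancel_right])
  set B := normalizer ((U₀ : Subgroup R) : Set R)
  have hσB : ∀ x, x ∈ B → σ x ∈ B := fun x hx => mem_normalizer_of_conj_le fun u hu => by
    have h' := (mem_normalizer_iff.1 hx u).1 hu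
    have := hσU _ h'
    rw [map_mul, map_mul, map_inv, hσU u hu] at this
    rw [this]; exact h'
  have hσw : w⁻¹ * σ w ∈ B := by
    have hin : (σ w)⁻¹ * h * σ w ∈ B := by
      have := hσB _ h6
      rwa [map_mul, map_mul, map_inv, hσh] at this
    rcases h7 _ hin with h' | h'
    · exfalso
      refine h5 (mem_normalizer_of_conj_le fun u hu => ?_)
      have e := (mem_normalizer_iff.1 h' u).1 hu
      have e2 : σ (w * u * w⁻¹) = σ w * u * (σ w)⁻¹ := by rw [map_mul, map_mul, map_inv, hσU u hu]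
      rw [← e2] at e
      exact σ.injective (hσU _ e) ▸ e
    · exact h'
  have hσg : ∀ g : R, g⁻¹ * σ g ∈ B := by
    intro g
    rcases h8 g with hg | ⟨u, hu, hg⟩
    · exact mul_mem (inv_mem hg) (hσB g hg)
    · have e : g⁻¹ * σ g = ((u * w)⁻¹ * g)⁻¹ * (w⁻¹ * σ w) * σ ((u * w)⁻¹ * g) := by
        rw [map_mul, map_inv, map_mul, hσU u hu]
        group
      rw [e]
      exact mul_mem (mul_mem (inv_mem hg) hσw) (hσB _ hg)
  -- `z` centralises every conjugate of `U`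
  have hcent : ∀ (g : R), ∀ u ∈ (U₀ : Subgroup R), σ (g * u * g⁻¹) = g * u * g⁻¹ := by
    intro g u hu
    set x := g * u * g⁻¹ with hx
    set d := x⁻¹ * σ x with hd
    have hdall : ∀ r : R, r⁻¹ * d * r ∈ B := by
      intro r
      have e : r⁻¹ * d * r = (x * r)⁻¹ * σ (x * r) * (r⁻¹ * σ r)⁻¹ := by
        rw [map_mul, hd]; group
      rw [e]
      exact mul_mem (hσg _) (inv_mem (hσg r))
    have hdU : ∀ r : R, r⁻¹ * d * r ∈ (U₀ : Subgroup R) → ∀ s : R, s⁻¹ * d * s ∈ (U₀ : Subgroup R) := by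
      intro r hr s
      -- a `p`-element of `N(U)` lies in `U`
      obtain ⟨k, hk⟩ := U₀.isPGroup' ⟨_, hr⟩
      have hk' : (r⁻¹ * d * r) ^ p ^ k = 1 := congrArg Subtype.val hk
      have hk'' : (s⁻¹ * d * s) ^ p ^ k = 1 := by
        have e : s⁻¹ * d * s = (s⁻¹ * r) * (r⁻¹ * d * r) * (s⁻¹ * r)⁻¹ := by group
        rw [e, conj_pow, hk', mul_one, mul_inv_cancel]
      have hP : IsPGroup p (zpowers (s⁻¹ * d * s)) := IsPGroup.of_card_dvd_pow (n := k) (by
        rw [Nat.card_zpowers]; exact orderOf_dvd_of_pow_eq_one hk'')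
      have hle := (U₀.isPGroup'.to_sup_of_normal_left' hP) (by
        rw [zpowers_le]; exact hdall s)
      exact U₀.is_maximal' hle le_sup_left ▸ mem_sup_right (mem_zpowers _)
    have hd0 : g⁻¹ * d * g ∈ (U₀ : Subgroup R) := by
      have hk := hσg g
      have e : g⁻¹ * d * g = u⁻¹ * ((g⁻¹ * σ g) * u * (g⁻¹ * σ g)⁻¹) := by
        rw [hd, hx, map_mul, map_mul, map_inv, hσU u hu]; group
      rw [e]
      exact mul_mem (inv_mem hu) ((mem_normalizer_iff.1 hk u).1 hu)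
    let P : Subgroup X := Subgroup.normalClosure {(d : X)}
    have hall := hdU g hd0
    -- all conjugates of `d` in `R` lie in `U₀`
    let D : Subgroup R := Subgroup.normalClosure {d}
    have hD : D ≤ (U₀ : Subgroup R) := by
      refine (closure_le _).2 fun v hv => ?_
      obtain ⟨a, ha, hav⟩ := Group.mem_conjugatesOfSet_iff.1 hv
      obtain ⟨r, rfl⟩ := isConj_iff.1 hav
      rw [Set.mem_singleton_iff.1 ha]
      have h' := hall r⁻¹
      rw [inv_inv] at h'
      exact h'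
    have hDp : D ≤ Cfsg.pCore p R := Cores.le_pCore (U₀.isPGroup'.to_le hD)
    have hRcore : (Cfsg.pCore p R).map R.subtype ≤ Cfsg.pCore p X := Cores.map_subtype_pCore_le R
    have : (d : X) ∈ Cfsg.pCore p X :=
      hRcore ⟨d, hDp (subset_normalClosure rfl), rfl⟩
    rw [hO, mem_bot] at this
    have hd1 : d = 1 := Subtype.ext this
    rw [hd, inv_mul_eq_one] at hd1
    exact hd1.symm
  have hzR : z ∈ centralizer (R : Set X) := by
    have htop := h9 (σ.toMonoidHom.eqLocus (MonoidHom.id R)) hcent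
    refine mem_centralizer_iff.2 fun x hx => ?_
    have e : σ (⟨x, hx⟩ : R) = ⟨x, hx⟩ := (show (⟨x, hx⟩ : R) ∈
      σ.toMonoidHom.eqLocus (MonoidHom.id R) from htop ▸ mem_top _)
    have e' := congrArg Subtype.val e
    rw [hσ] at e'
    exact (mul_inv_eq_iff_eq_mul.1 e').symm
  -- the centraliser of `R` is nilpotent
  set C := centralizer (R : Set X)
  haveI : C.Normal := inferInstance
  set K := R.subgroupOf C
  have hKc : K ≤ center C := fun k hk => mem_center_iff.2 fun v => Subtype.ext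
    (mem_centralizer_iff.1 v.2 _ hk).symm
  have hnil : Group.IsNilpotent C := by
    have hq : IsPGroup p (C ⧸ K) := by
      refine hRp.of_injective (QuotientGroup.map K R C.subtype (fun _ h => h)) ?_
      refine (injective_iff_map_eq_one _).2 fun v hv => ?_
      obtain ⟨v, rfl⟩ := QuotientGroup.mk'_surjective K v
      replace hv : ((v : X) : X ⧸ R) = 1 := hv
      exact (QuotientGroup.eq_one_iff _).2 ((QuotientGroup.eq_one_iff (N := R) (v : X)).1 hv)
    haveI := hq.isNilpotent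
    exact Subgroup.isNilpotent_of_ker_le_center (QuotientGroup.mk' K) (by
      rw [QuotientGroup.ker_mk']; exact hKc)
  have hzC : (⟨z, hzR⟩ : C) ∈ Cfsg.pCore p C := by
    obtain ⟨k, hk⟩ := T₀.isPGroup' ⟨z, hz⟩
    have hP : IsPGroup p (zpowers (⟨z, hzR⟩ : C)) := IsPGroup.of_card_dvd_pow (n := k) (by
      rw [Nat.card_zpowers]; exact orderOf_dvd_of_pow_eq_one (Subtype.ext (by simpa using congrArg Subtype.val hk)))
    obtain ⟨P, hP'⟩ := hP.exists_le_sylow
    haveI : (P : Subgroup C).Normal :=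
      (Group.isNilpotent_of_finite_tfae.out 0 3 rfl rfl).1 hnil p inferInstance P
    exact Cores.le_pCore P.isPGroup' (hP' (mem_zpowers _))
  have := Cores.map_subtype_pCore_le C ⟨_, hzC, rfl⟩
  rw [hO, mem_bot] at this
  exact this

end Cfsg.Agent.PLocal.RankOneCentral
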