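import Cfsg.Agent.Lib.PLocal.RankOneCentral.Two
import Cfsg.Agent.Lib.ShortPres.SU3.Model

/-!
# `SU₃(q)` and `PSU₃(q)` are good in characteristic `p ≥ 5`
-/

set_option autoImplicit false

namespace Cfsg.Agent.PLocal.RankOneCentral.Three

open Matrix Cfsg.Agent.Classical Cfsg.Agent.Classical.Unitary Cfsg.Agent.Forms
open Cfsg.Agent.SimpleFacts.MinIndexPSUThree.Borel
open Cfsg.Agent.SimpleFacts.MinIndexPSUThree.Plane (fixLine mem_fixLine)
open Cfsg.Agent.SimpleFacts.MinIndexPSUThree.Group

universe u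

variable {F : Type u} [Field F] [Fintype F] {q : ℕ} {p : ℕ} [Fact p.Prime] [CharP F p]

local notation "H" => Cfsg.hermForm 3 F q
local notation "SU3" => Cfsg.SU 3 F q

theorem not_dvd_pred_sq (hF : Fintype.card F = q ^ 2) (hpq : p ∣ q) : ¬ p ∣ q ^ 2 - 1 := by
  intro h
  have h1 : 1 ≤ q ^ 2 := Nat.one_le_pow _ _ (Nat.pos_of_ne_zero (q_ne_zero hF))
  have h2 : p ∣ q ^ 2 := dvd_pow hpq two_ne_zero
  have := Nat.dvd_sub h2 h
  rw [Nat.sub_sub_self h1] at this
  exact (Fact.out : p.Prime).one_lt.ne' (Nat.dvd_one.1 this)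

theorem not_dvd_index (hF : Fintype.card F = q ^ 2) (hpq : p ∣ q) (B : Frame F q) :
    ¬ p ∣ (Ue F q B.e).index := by
  have h1 := (fixLine F q B.e).card_mul_index
  rw [card_fixLine hF B, card_SU hF] at h1
  have hpos : 0 < q ^ 3 * (q ^ 2 - 1) := card_fixLine hF B ▸ Nat.card_pos
  have h2 : (fixLine F q B.e).index = q ^ 3 + 1 :=
    Nat.eq_of_mul_eq_mul_left hpos (by rw [h1]; ring)
  rw [← Subgroup.relIndex_mul_index (Ue_le_fixLine B.e), h2, (Fact.out : p.Prime).dvd_mul]
  rintro (h | h)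
  · have hker : (Ue F q B.e).subgroupOf (fixLine F q B.e) = (coef B).ker := by
      ext k
      rw [Subgroup.mem_subgroupOf, MonoidHom.mem_ker, ker_coef]
    rw [Subgroup.relIndex, hker, Subgroup.index_ker] at h
    have h3 : Nat.card (coef B).range ∣ q ^ 2 - 1 := by
      have e : q ^ 2 - 1 = (q - 1) * (q + 1) := by rw [mul_comm, ← Nat.sq_sub_sq, one_pow]
      exact e ▸ (Subgroup.card_subgroup_dvd_card (coef B).range).trans (Eq.dvd (natCard_units_F hF))
    exact not_dvd_pred_sq hF hpq (h.trans h3)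
  · exact (Fact.out : p.Prime).one_lt.ne'
      (Nat.dvd_one.1 ((Nat.dvd_add_right (dvd_pow hpq (by norm_num))).1 h))

theorem good_SU (h5 : 5 ≤ p) (hF : Fintype.card F = q ^ 2) {a : ℕ} (hqp : q = p ^ a) :
    Good p SU3 := by
  have ha : a ≠ 0 := fun h0 => by
    have := HermStd.one_lt_q hF
    rw [hqp, h0, pow_zero] at this
    omega
  have hpq : p ∣ q := hqp ▸ dvd_pow_self p ha
  obtain ⟨B⟩ := exists_frame_default (F := F) hF
  have hUp : IsPGroup p (Ue F q B.e) := fun u => by
    obtain ⟨k, hk⟩ := pow_p (p := p) hF B u.2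
    exact ⟨k, Subtype.ext (by simpa using hk)⟩
  let U : Sylow p SU3 := hUp.toSylow (not_dvd_index hF hpq B)
  have hU : (U : Subgroup SU3) = Ue F q B.e := rfl
  have hlt : ∃ u ∈ Ue F q B.e, u ≠ 1 := by
    obtain ⟨c, hc0, hc⟩ := exists_traceZero hF
    obtain ⟨h1, h2⟩ := tvu_mem_Zg hF B hc
    refine ⟨_, Zg_le_Ue _ h1, fun h0 => hc0 ?_⟩
    rw [← h2, h0, tau_one hF B]
  have hN : ∀ k : SU3, k ∈ Subgroup.normalizer (Ue F q B.e : Set SU3) ↔ k ∈ fixLine F q B.e := by
    intro k
    constructor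
    · intro hk
      obtain ⟨u, hu, hu1⟩ := hlt
      have h' := (Subgroup.mem_normalizer_iff.1 hk u).1 hu
      rw [mem_fixLine_iff (e_ne B) B.he]
      refine (fixes_unique (p := p) hF B h' (fun h0 => hu1 (conj_eq_one_iff.1 h0)) _).1 ?_
      have he : u • pt (q := q) B.e (e_ne B) B.he = pt B.e (e_ne B) B.he :=
        (mem_fixLine_iff (e_ne B) B.he).1 (Ue_le_fixLine _ hu)
      rw [mul_smul, mul_smul, inv_smul_smul, he]
    · intro hk
      obtain ⟨a, ha0, ha⟩ := mem_fixLine.1 hk
      refine mem_normalizer_of_conj_le fun u hu => mem_Ue.2 ?_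
      have hinv : mat k⁻¹ *ᵥ B.e = a⁻¹ • B.e := by
        have e : mat k⁻¹ *ᵥ (a • B.e) = B.e := by rw [← ha, ← mul_mulVec, inv_mul_cancel, mat_one, one_mulVec]
        rw [Matrix.mulVec_smul] at e
        exact ((inv_smul_eq_iff₀ ha0).2 e.symm).symm
      rw [mul_mulVec, mul_mulVec, hinv, Matrix.mulVec_smul, mem_Ue.1 hu, Matrix.mulVec_smul, ha,
        smul_smul, inv_mul_cancel₀ ha0, one_smul]
  obtain ⟨g, hg⟩ := IsCyclic.exists_generator (α := Fˣ)
  let two : Fˣ := Units.mk0 (2 : F) (Two.two_ne_zero' h5)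
  obtain ⟨T, hTe, hTw, hTf⟩ := ShortPres.SU3.Model.exists_torus hF B two
  obtain ⟨C, hCe, -, -⟩ := ShortPres.SU3.Model.exists_torus hF B g
  obtain ⟨W, hWe, hWw, hWf⟩ := ShortPres.SU3.Model.exists_weyl hF B
  have h2q : (2 : F) ^ q = 2 := by
    rw [hqp]
    have := map_natCast (iterateFrobenius F p a) 2
    simpa [iterateFrobenius_def] using this
  have hv2 : (two : F) = 2 := rfl
  have h20 : (2 : F) ≠ 0 := Two.two_ne_zero' h5
  rw [hv2, h2q, div_self h20, one_smul] at hTw
  rw [hv2, h2q] at hTf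
  rw [hv2] at hTe
  have hTfix : T ∈ fixLine F q B.e := mem_fixLine.2 ⟨2, h20, hTe⟩
  have hCfix : C ∈ fixLine F q B.e := mem_fixLine.2 ⟨g, g.ne_zero, hCe⟩
  have hWinv : mat W⁻¹ *ᵥ B.f = B.e := by
    conv_lhs => rw [← hWe]
    rw [← mul_mulVec, inv_mul_cancel, mat_one, one_mulVec]
  refine ⟨U, T, W, C, ?_⟩
  rw [hU]
  simp only [hN]
  refine ⟨hTfix, ?_, hCfix, ?_, ?_, ?_, ?_, ?_, ?_⟩
  · show T ^ (p - 1) ∈ Ue F q B.e
    have := (ker_coef B (⟨T, hTfix⟩ ^ (p - 1))).1 (by
      rw [map_pow]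
      refine Units.ext ?_
      rw [Units.val_pow_eq_pow_val, coef_eq B ⟨T, hTfix⟩ hTe]
      exact Two.two_pow h5)
    simpa using this
  · intro x hx
    obtain ⟨i, hi⟩ := hg (coef B ⟨x, hx⟩)
    refine ⟨i, ?_⟩
    have hcg : coef B ⟨C, hCfix⟩ = g := Units.ext (coef_eq B ⟨C, hCfix⟩ hCe)
    have := (ker_coef B ((⟨C, hCfix⟩ ^ i)⁻¹ * ⟨x, hx⟩)).1 (by
      rw [map_mul, map_inv, map_zpow, hcg, show g ^ i = _ from hi, inv_mul_cancel])
    show (C ^ i)⁻¹ * x ∈ Ue F q B.e
    simpa using this
  · intro hW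
    obtain ⟨a, -, ha⟩ := mem_fixLine.1 hW
    rw [hWe] at ha
    have := congrArg (fun v => H v B.e) ha
    simp [H_smul_left, B.he, hfe hF B] at this
  · refine mem_fixLine.2 ⟨(2 : F)⁻¹, inv_ne_zero h20, ?_⟩
    rw [mul_mulVec, mul_mulVec, hWe, hTf, Matrix.mulVec_smul, hWinv]
  · intro k hk
    obtain ⟨a, -, ha⟩ := mem_fixLine.1 hk
    set v := mat k *ᵥ B.e with hv
    have hTv : mat T *ᵥ v = a • v := by
      have e := congrArg (fun x => mat k *ᵥ x) ha
      simp only [Matrix.mulVec_smul] at e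
      rw [← mul_mulVec, show k * (k⁻¹ * T * k) = T * k by group, mul_mulVec] at e
      rw [hv]
      exact e
    have hiso : H v v = 0 := by rw [hv, SU_H, B.he]
    have hd := decomp hF B v
    rw [hd, Matrix.mulVec_add, Matrix.mulVec_add, Matrix.mulVec_smul, Matrix.mulVec_smul,
      Matrix.mulVec_smul, hTe, hTf, hTw] at hTv
    have c0 := congrArg (fun x => H x B.f) hTv
    have c1 := congrArg (fun x => H x B.e) hTv
    have c2 := congrArg (fun x => H x B.w) hTv
    simp [H_add_left, H_smul_left, B.he, B.hf, B.hef, hfe hF B, B.hwe, B.hwf, B.hww,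
      hew hF B, hfw hF B] at c0 c1 c2
    by_cases hz : H v B.w = 0
    · by_cases hx : H v B.f = 0
      · right
        rw [hz, hx, zero_smul, zero_smul, zero_add, add_zero] at hd
        refine mem_fixLine.2 ⟨H v B.e, fun h0 => ?_, ?_⟩
        · rw [h0, zero_smul] at hd
          exact mat_mulVec_ne_zero k (e_ne B) hd
        · rw [mul_mulVec, ← hv]
          conv_lhs => rw [hd]
          rw [Matrix.mulVec_smul, hWinv]
      · left
        have ha2 : a = 2 := mul_right_cancel₀ hx (by linear_combination -c0)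
        have hy : H v B.e = 0 := by
          by_contra h0
          have h' : (2 : F) * 2 = 1 := by
            rw [ha2] at c1
            field_simp at c1
            linear_combination -c1
          exact Two.three_ne_zero' (F := F) h5 (by linear_combination h')
        rw [hz, hy, zero_smul, zero_smul, add_zero, add_zero] at hd
        exact mem_fixLine.2 ⟨H v B.f, hx, hd⟩
    · exfalso
      have ha1 : a = 1 := mul_right_cancel₀ hz (by linear_combination -c2)
      have hx : H v B.f = 0 := by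
        rw [ha1] at c0
        linear_combination c0
      have hy : H v B.e = 0 := by
        rw [ha1] at c1
        field_simp at c1
        linear_combination -c1
      rw [hx, hy, zero_smul, zero_smul, zero_add, zero_add] at hd
      rw [hd, UnitaryCount.hermForm_smul_smul, B.hww, mul_one] at hiso
      exact hz (eq_zero_of_pow_eq_zero hiso)
  · intro k
    set v := mat k *ᵥ B.e with hv
    have hiso : H v v = 0 := by rw [hv, SU_H, B.he]
    have hd := decomp hF B v
    by_cases hy : H v B.e = 0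
    · left
      rw [hy, zero_smul, add_zero] at hd
      have hz : H v B.w = 0 := by
        have e := hiso
        rw [hd] at e
        simp [H_add_left, H_add_right hF, H_smul_left, H_smul_right, B.he, B.hwe, B.hww,
          hew hF B, q_ne_zero hF] at e
        exact e
      rw [hz, zero_smul, add_zero] at hd
      exact mem_fixLine.2 ⟨H v B.f, fun h0 => by
        rw [h0, zero_smul] at hd
        exact mat_mulVec_ne_zero k (e_ne B) hd, hd⟩
    · right
      set v' := (H v B.e)⁻¹ • v with hv'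
      set τ := H v' B.f
      set ψ := H v' B.w
      have hd' : v' = τ • B.e + B.f + ψ • B.w := by
        have := decomp hF B v'
        rwa [show H v' B.e = 1 by rw [hv', H_smul_left, inv_mul_cancel₀ hy], one_smul] at this
      have hiso' : H v' v' = 0 := by
        rw [hv', UnitaryCount.hermForm_smul_smul, hiso, mul_zero]
      obtain ⟨u, hue, -, huf⟩ := ShortPres.SU3.Model.exists_of_images hF B
        ![B.e, B.w + (-(ψ ^ q)) • B.e, v'] !![1, -(ψ ^ q), τ; 0, 1, ψ; 0, 0, 1]
        (fun j => by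
          fin_cases j
          · simp
          · simp [add_comm]
          · simp only [Matrix.cons_val, hd']
            simp
            abel)
        (by simp [Matrix.det_fin_three]) B.he hiso'
        (by rw [hd']; simp [H_add_right hF, H_smul_right, B.he, B.hef, hew hF B])
        (by simp [H_add_left, H_smul_left, B.he, B.hwe, H_neg_left])
        (by
          rw [hd']
          simp [H_add_left, H_add_right hF, H_smul_left, H_smul_right, H_neg_left, B.he, B.hef, B.hwe,
            B.hwf, B.hww, hew hF B])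
        (by simp [H_add_left, H_add_right hF, H_smul_left, H_smul_right, H_neg_left, H_neg_right hF,
            B.he, B.hwe, B.hww, hew hF B])
      refine ⟨u, mem_Ue.2 hue, mem_fixLine.2 ⟨H v B.e, hy, ?_⟩⟩
      have e : v = H v B.e • v' := by rw [hv', smul_smul, mul_inv_cancel₀ hy, one_smul]
      have huf' : mat u⁻¹ *ᵥ v' = B.f := by
        rw [show v' = mat u *ᵥ B.f from huf.symm, ← mul_mulVec, inv_mul_cancel, mat_one, one_mulVec]
      rw [_root_.mul_inv_rev, mul_assoc, mul_mulVec, mul_mulVec, ← hv]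
      conv_lhs => rw [e]
      rw [Matrix.mulVec_smul, Matrix.mulVec_smul, huf', hWinv]
  · intro K hK
    refine eq_top_of_Zg hF (fun h2 => ?_) K fun B' z hz => ?_
    · subst h2
      have := Nat.le_of_dvd two_pos hpq
      omega
    have htr := su_isPretransitive (n := 3) hF
    obtain ⟨k, hk⟩ := MulAction.exists_smul_eq SU3 (pt (q := q) B.e (e_ne B) B.he)
      (pt B'.e (e_ne B') B'.he)
    rw [smul_pt, pt_eq_pt] at hk
    obtain ⟨a, ha⟩ := hk
    have hze : mat z *ᵥ B'.e = B'.e := mem_Ue.1 (Zg_le_Ue _ hz)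
    have := hK k (k⁻¹ * z * k) (mem_Ue.2 (by
      rw [mul_mulVec, mul_mulVec, ← ha, Matrix.mulVec_smul, hze, ha, ← mul_mulVec, inv_mul_cancel,
        mat_one, one_mulVec]))
    simpa [mul_assoc] using this

theorem good_PSU (h5 : 5 ≤ p) (hF : Fintype.card F = q ^ 2) {a : ℕ} (hqp : q = p ^ a) :
    Good p (Cfsg.PSU 3 F q) := by
  refine good_of_surjective (QuotientGroup.mk' _) (QuotientGroup.mk'_surjective _)
    (by rw [QuotientGroup.ker_mk']) ?_ (good_SU h5 hF hqp)
  rw [QuotientGroup.ker_mk', natCard_center hF (by norm_num)]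
  intro h
  have := Nat.le_of_dvd (by norm_num) (h.trans (Nat.gcd_dvd_left _ _))
  omega

end Cfsg.Agent.PLocal.RankOneCentral.Three
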