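import Cfsg.Agent.Lib.PLocal.RankOneCentral.Basic
import Cfsg.Agent.Lib.Classical.GL2

/-!
# `SL₂(q)` and `PSL₂(q)` are good in characteristic `p ≥ 5`
-/

set_option autoImplicit false

namespace Cfsg.Agent.PLocal.RankOneCentral.Two

open Matrix Cfsg.Agent.Classical Cfsg.Agent.Classical.GL2
open scoped MatrixGroups

variable {F : Type*} [Field F] [Fintype F] {p : ℕ} [Fact p.Prime] [CharP F p]

theorem two_pow (h5 : 5 ≤ p) : (2 : F) ^ (p - 1) = 1 := by
  have h2 : (2 : ZMod p) ≠ 0 := fun h0 => by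
    have h1 : ((2 : ℕ) : ZMod p) = 0 := by exact_mod_cast h0
    have := Nat.le_of_dvd two_pos ((ZMod.natCast_eq_zero_iff 2 p).1 h1)
    omega
  have := congrArg (ZMod.castHom (dvd_refl p) F) (ZMod.pow_card_sub_one_eq_one h2)
  rw [map_pow, map_ofNat, map_one] at this
  exact this

theorem two_ne_zero' (h5 : 5 ≤ p) : (2 : F) ≠ 0 := fun h0 => by
  have := two_pow (F := F) h5
  rw [h0, zero_pow (by omega)] at this
  exact zero_ne_one this

theorem three_ne_zero' (h5 : 5 ≤ p) : (3 : F) ≠ 0 := fun h0 => by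
  have h1 : ((3 : ℕ) : F) = 0 := by exact_mod_cast h0
  have := Nat.le_of_dvd (by norm_num) ((CharP.cast_eq_zero_iff F p 3).1 h1)
  omega

/-- The diagonal torus. -/
def dia : Fˣ →* SL(2, F) where
  toFun a := ⟨!![(a : F), 0; 0, (a⁻¹ : Fˣ)], by simp [det_fin_two]⟩
  map_one' := sl_ext (by simp [one_fin_two])
  map_mul' a b := sl_ext (by
    show !![((a * b : Fˣ) : F), 0; 0, ((a * b)⁻¹ : Fˣ)] =
      !![(a : F), 0; 0, (a⁻¹ : Fˣ)] * !![(b : F), 0; 0, (b⁻¹ : Fˣ)]
    ext i j
    fin_cases i <;> fin_cases j <;> simp [Matrix.mul_apply, Fin.sum_univ_two, mul_comm])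

theorem coe_dia (a : Fˣ) :
    (dia a : Matrix (Fin 2) (Fin 2) F) = !![(a : F), 0; 0, (a⁻¹ : Fˣ)] := rfl

/-- The Weyl element. -/
def weyl : SL(2, F) := ⟨!![0, -1; 1, 0], by simp [det_fin_two]⟩

theorem coe_weyl : ((weyl : SL(2, F)) : Matrix (Fin 2) (Fin 2) F) = !![0, -1; 1, 0] := rfl

theorem mem_normalizer_U_iff (g : SL(2, F)) :
    g ∈ Subgroup.normalizer (U F : Set SL(2, F)) ↔ (g : Matrix (Fin 2) (Fin 2) F) 1 0 = 0 := by
  have hmap : ∀ z : SL(2, F), Matrix.SpecialLinearGroup.toGL z ∈ UGL F ↔ z ∈ U F := by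
    intro z
    refine ⟨?_, ?_⟩ <;> rintro ⟨c, hc⟩ <;> refine ⟨c, ?_⟩
    · exact Matrix.SpecialLinearGroup.toGL_injective hc
    · exact congrArg Matrix.SpecialLinearGroup.toGL hc
  constructor
  · intro h
    have h1 := (Subgroup.mem_normalizer_iff.1 (inv_mem h) (uniHom F (Multiplicative.ofAdd 1))).1 ⟨_, rfl⟩
    have := apply_one_zero_of_conj_mem (Matrix.SpecialLinearGroup.toGL g)
      (y := uniHomGL F (Multiplicative.ofAdd 1)) ⟨_, rfl⟩ (fun h0 => by
        have := uniHomGL_injective (h0.trans (map_one _).symm)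
        simpa using congrArg Multiplicative.toAdd this) (by
        have h2 := (hmap _).2 h1
        simpa [uniHomGL] using h2)
    exact this
  · intro h
    refine mem_normalizer_of_conj_le fun u hu => (hmap _).1 ?_
    rw [map_mul, map_mul, map_inv]
    exact conj_mem_UGL h ((hmap u).2 hu)

theorem good_SL (h5 : 5 ≤ p) : Good p SL(2, F) := by
  obtain ⟨g, hg⟩ := IsCyclic.exists_generator (α := Fˣ)
  let two : Fˣ := Units.mk0 (2 : F) (two_ne_zero' h5)
  refine ⟨sylowSL p, dia two, weyl, dia g, ?_⟩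
  rw [coe_sylowSL]
  simp only [mem_normalizer_U_iff]
  refine ⟨by simp [coe_dia], ?_, by simp [coe_dia], ?_, by simp [coe_weyl], ?_, ?_, ?_, ?_⟩
  · have : dia two ^ (p - 1) = 1 := by
      rw [← map_pow, show two ^ (p - 1) = 1 from Units.ext (by simpa [two] using two_pow h5), map_one]
    rw [this]; exact one_mem _
  · intro x hx
    have hdet : (x : Matrix (Fin 2) (Fin 2) F) 0 0 * (x : Matrix (Fin 2) (Fin 2) F) 1 1 = 1 := by
      have := (det_fin_two _).symm.trans x.2
      simpa [hx] using this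
    obtain ⟨i, hi⟩ := hg (Units.mk0 _ (left_ne_zero_of_mul_eq_one hdet))
    refine ⟨i, ?_⟩
    rw [← map_zpow, show g ^ i = _ from hi]
    set d := Units.mk0 _ (left_ne_zero_of_mul_eq_one hdet)
    refine ⟨Multiplicative.ofAdd ((d⁻¹ : Fˣ) * (x : Matrix (Fin 2) (Fin 2) F) 0 1), ?_⟩
    rw [eq_inv_mul_iff_mul_eq]
    refine sl_ext ?_
    rw [Matrix.SpecialLinearGroup.coe_mul, coe_uniHom, coe_dia]
    ext i j
    fin_cases i <;> fin_cases j <;> simp [Matrix.mul_apply, Fin.sum_univ_two, hx, d]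
    · field_simp
      exact mul_div_cancel_left₀ _ (left_ne_zero_of_mul_eq_one hdet)
    · exact inv_eq_of_mul_eq_one_right hdet
  · simp [coe_dia, coe_weyl, Matrix.adjugate_fin_two, Matrix.mul_apply, Fin.sum_univ_two]
  · intro x hx
    simp [coe_dia, two, Matrix.adjugate_fin_two, Matrix.mul_apply, Fin.sum_univ_two] at hx
    have h3 : (x : Matrix (Fin 2) (Fin 2) F) 1 0 * (x : Matrix (Fin 2) (Fin 2) F) 0 0 = 0 := by
      have h2 := two_ne_zero' (F := F) h5
      field_simp at hx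
      exact (mul_eq_zero.1 (show (3 : F) * _ = 0 by linear_combination -hx)).resolve_left
        (three_ne_zero' h5)
    rcases mul_eq_zero.1 h3 with h | h
    · exact Or.inl h
    · right
      simp [coe_weyl, Matrix.adjugate_fin_two, Matrix.mul_apply, Fin.sum_univ_two, h]
  · intro x
    by_cases h : (x : Matrix (Fin 2) (Fin 2) F) 1 0 = 0
    · exact Or.inl h
    · refine Or.inr ⟨uniHom F (Multiplicative.ofAdd ((x : Matrix (Fin 2) (Fin 2) F) 0 0 /
        (x : Matrix (Fin 2) (Fin 2) F) 1 0)), ⟨_, rfl⟩, ?_⟩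
      simp [coe_uniHom, coe_weyl, Matrix.adjugate_fin_two, Matrix.mul_apply, Fin.sum_univ_two, h]
  · intro K hK
    set w : SL(2, F) := weyl
    have hne : sylowSL (F := F) p ≠ w • sylowSL p := fun e => by
      have := (Sylow.smul_eq_iff_mem_normalizer (P := sylowSL (F := F) p)).1 e.symm
      have h' : (w : Matrix (Fin 2) (Fin 2) F) 1 0 = 0 := (mem_normalizer_U_iff w).1 this
      simp [w, coe_weyl] at h'
    rw [eq_top_iff, ← sylow_sup_eq_top p _ _ hne, sup_le_iff]
    refine ⟨fun u hu => ?_, fun u hu => ?_⟩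
    · simpa using hK 1 u hu
    · rw [Sylow.coe_subgroup_smul, Subgroup.pointwise_smul_def] at hu
      obtain ⟨v, hv, rfl⟩ := hu
      exact hK w v hv

theorem not_dvd_center (h5 : 5 ≤ p) : ¬ p ∣ Nat.card (Subgroup.center SL(2, F)) := by
  rw [Linear.natCard_center_SL (Fin 2), Fintype.card_fin]
  intro h
  have := Nat.le_of_dvd two_pos (h.trans (Nat.gcd_dvd_left _ _))
  omega

theorem good_PSL (h5 : 5 ≤ p) : Good p (Matrix.ProjectiveSpecialLinearGroup (Fin 2) F) :=
  good_of_surjective (QuotientGroup.mk' _) (QuotientGroup.mk'_surjective _)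
    (by rw [QuotientGroup.ker_mk']) (by rw [QuotientGroup.ker_mk']; exact not_dvd_center h5) (good_SL h5)

end Cfsg.Agent.PLocal.RankOneCentral.Two
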